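import Groth.Statements.S16877

set_option autoImplicit false
set_option backward.isDefEq.respectTransparency false
set_option backward.isDefEq.respectTransparency.types false

universe w v₂ u₂ v u
open CategoryTheory Opposite

namespace Groth.Agent.Lib.Helper28.GerbIsoCl

variable {C : Type u} [Category.{v} C] (J : GrothendieckTopology C)
  {𝒳 : BasedCategory.{v₂, u₂} C}
  {P : Cᵒᵖ ⥤ Type u₂} (π : 𝒳 ⥤ᵇ Stk.ofPsh P)

/-- The section of `P` over `U` attached to an object `x` over `U`. -/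
def secAt (x : 𝒳.obj) {U : C} (h : 𝒳.p.obj x = U) : P.obj (op U) :=
  P.map (eqToHom (h.symm.trans (π.w_obj x).symm)).op (π.obj x).sec

theorem map_hom_eq {y x : 𝒳.obj} (ψ : y ⟶ x) :
    (π.map ψ).hom = eqToHom (π.w_obj y) ≫ 𝒳.p.map ψ ≫ eqToHom (π.w_obj x).symm := by
  have := Functor.congr_hom π.w ψ
  simpa using this

theorem secAt_map {y x : 𝒳.obj} (ψ : y ⟶ x) {U V : C} (hx : 𝒳.p.obj x = U) (hy : 𝒳.p.obj y = V)
    (f : V ⟶ U) (hf : 𝒳.p.IsHomLift f ψ) :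
    P.map f.op (secAt π x hx) = secAt π y hy := by
  subst hx hy
  have e : 𝒳.p.map ψ = f := by
    have := @IsHomLift.fac' _ _ _ _ 𝒳.p _ _ _ _ f ψ hf
    simpa using this
  subst e
  have hc : ∀ {A B D : C} (f : A ⟶ B) (g : B ⟶ D) (s : P.obj (op D)),
      P.map f.op (P.map g.op s) = P.map (f ≫ g).op s := by
    intros; simp
  have h1 : P.map (π.map ψ).hom.op (π.obj x).sec = (π.obj y).sec := (π.map ψ).map_sec
  have h2 : eqToHom ((rfl : 𝒳.p.obj y = 𝒳.p.obj y).symm.trans (π.w_obj y).symm) ≫ (π.map ψ).hom =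
      𝒳.p.map ψ ≫ eqToHom ((rfl : 𝒳.p.obj x = 𝒳.p.obj x).symm.trans (π.w_obj x).symm) := by
    rw [map_hom_eq]; simp
  show P.map (𝒳.p.map ψ).op (P.map (eqToHom _).op (π.obj x).sec) = P.map (eqToHom _).op (π.obj y).sec
  rw [← h1, hc, hc]
  exact congrArg (fun h => P.map h.op (π.obj x).sec) h2.symm

theorem pmap_comp_apply {A B D : C} (f : A ⟶ B) (g : B ⟶ D) (s : P.obj (op D)) :
    P.map f.op (P.map g.op s) = P.map (f ≫ g).op s := by simp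

theorem pmap_eqToHom_trans {A B D : C} (h1 : A = B) (h2 : B = D) (s : P.obj (op D)) :
    P.map (eqToHom h1).op (P.map (eqToHom h2).op s) = P.map (eqToHom (h1.trans h2)).op s := by
  subst h1 h2; simp

theorem pmap_eqToHom_refl {A : C} (h1 : A = A) (s : P.obj (op A)) :
    P.map (eqToHom h1).op s = s := by
  simp

variable [FibCat.IsFibGrpd 𝒳.p]

/-- The map of presheaves from isomorphism classes to `P`. -/
noncomputable def cMap : Gerb.isoClPsh 𝒳 ⟶ P where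
  app U := ↾(Quot.lift (fun a : 𝒳.p.Fiber U.unop => secAt π a.1 a.2)
    (fun a b h => by
      obtain ⟨φ⟩ := h
      have := secAt_map π φ.1 b.2 a.2 (𝟙 _) φ.2
      rw [← this]; simp))
  naturality U V f := by
    ext a
    obtain ⟨a⟩ := a
    obtain ⟨xa, ha⟩ := a
    have h1 := Gerb.pullHom_isHomLift 𝒳 xa (f.unop ≫ eqToHom ha.symm)
    have h2 : 𝒳.p.IsHomLift f.unop (Gerb.pullHom 𝒳 xa (f.unop ≫ eqToHom ha.symm)) :=
      IsHomLift.of_fac' 𝒳.p _ _ (Gerb.pull_over 𝒳 xa _) ha (by rw [Gerb.pullHom_map])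
    exact (secAt_map π _ ha (Gerb.pull_over 𝒳 xa _) f.unop h2).symm

theorem cMap_mk {U : C} (a : 𝒳.p.Fiber U) :
    (cMap π).app (op U) (Quot.mk _ a) = secAt π a.1 a.2 := rfl

theorem cMap_locSurj (hπ : Gerb.LocSurjObj J π) : Presheaf.IsLocallySurjective J (cMap π) where
  imageSieve_mem {U} s := by
    obtain ⟨R, hR, h⟩ := hπ (⟨U, s⟩ : Stk.EltObj P)
    refine J.superset_covering ?_ hR
    intro V f hf
    obtain ⟨x, g, hg⟩ := h f hf
    have hx : (π.obj x).base = V := @IsHomLift.domain_eq _ _ _ _ (Stk.EltObj.forget P) _ _ _ _ f g hg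
    have hx' : 𝒳.p.obj x = V := (π.w_obj x).symm.trans hx
    refine ⟨Quot.mk _ ⟨x, hx'⟩, ?_⟩
    rw [cMap_mk]
    have e1 : g.hom = eqToHom hx ≫ f := by
      have := @IsHomLift.fac' _ _ _ _ (Stk.EltObj.forget P) _ _ _ _ f g hg
      simpa using this
    have e2 : P.map g.hom.op s = (π.obj x).sec := g.map_sec
    show P.map (eqToHom _).op (π.obj x).sec = P.map f.op s
    rw [← e2, pmap_comp_apply]
    have e3 : eqToHom (hx'.symm.trans (π.w_obj x).symm) ≫ g.hom = f := by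
      rw [e1]; simp
    exact congrArg (fun h => P.map h.op s) e3

theorem cMap_locInj_aux (hπ : Gerb.LocSurjHom J π) {U : C} (xa xb : 𝒳.obj)
    (ha : 𝒳.p.obj xa = U) (hb : 𝒳.p.obj xb = U) (h' : secAt π xa ha = secAt π xb hb) :
    Presheaf.equalizerSieve (F := Gerb.isoClPsh 𝒳) (X := op U)
      (Quot.mk _ ⟨xa, ha⟩) (Quot.mk _ ⟨xb, hb⟩) ∈ J U := by
    subst ha
    have hbase : (π.obj xa).base = (π.obj xb).base :=
      (π.w_obj xa).trans (hb.symm.trans (π.w_obj xb).symm)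
    have hsec : P.map (eqToHom hbase).op (π.obj xb).sec = (π.obj xa).sec := by
      have e := congrArg (P.map (eqToHom (π.w_obj xa)).op) h'
      unfold secAt at e
      rw [pmap_eqToHom_trans, pmap_eqToHom_trans, pmap_eqToHom_refl] at e
      exact e.symm
    let b : π.obj xa ⟶ π.obj xb := ⟨eqToHom hbase, hsec⟩
    have hb' : (Stk.ofPsh P).p.IsHomLift (𝟙 (𝒳.p.obj xa)) b :=
      IsHomLift.of_fac' _ _ _ (π.w_obj xa) ((π.w_obj xb).trans hb) (by simp [b])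
    obtain ⟨R, hR, hRR⟩ := hπ xa xb b hb'
    refine J.superset_covering ?_ hR
    intro V f hf
    obtain ⟨x₀, φ, ψ, hφ, hψ, -⟩ := hRR f hf
    have hx₀ : 𝒳.p.obj x₀ = V := @IsHomLift.domain_eq _ _ _ _ 𝒳.p _ _ _ _ f φ hφ
    show Quot.mk _ (Gerb.pullFib 𝒳 f ⟨xa, rfl⟩) = Quot.mk _ (Gerb.pullFib 𝒳 f ⟨xb, hb⟩)
    have hφ' : 𝒳.p.IsHomLift (f ≫ eqToHom (rfl : 𝒳.p.obj xa = 𝒳.p.obj xa).symm) φ := by
      simpa using hφ
    have hψ' : 𝒳.p.IsHomLift (f ≫ eqToHom hb.symm) ψ :=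
      IsHomLift.of_fac' 𝒳.p _ _ hx₀ rfl (by
        have := @IsHomLift.fac' _ _ _ _ 𝒳.p _ _ _ _ f ψ hψ
        rw [this]; simp)
    obtain ⟨χ₁, hχ₁, -⟩ := Gerb.exists_hom_pull 𝒳 xa _ φ hφ'
    obtain ⟨χ₂, hχ₂, -⟩ := Gerb.exists_hom_pull 𝒳 xb _ ψ hψ'
    have r1 : Quot.mk (Gerb.IsoRel 𝒳 V) (⟨x₀, hx₀⟩ : 𝒳.p.Fiber V) =
        Quot.mk _ (Gerb.pullFib 𝒳 f ⟨xa, rfl⟩) := Quot.sound ⟨⟨χ₁, hχ₁⟩⟩
    have r2 : Quot.mk (Gerb.IsoRel 𝒳 V) (⟨x₀, hx₀⟩ : 𝒳.p.Fiber V) =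
        Quot.mk _ (Gerb.pullFib 𝒳 f ⟨xb, hb⟩) := Quot.sound ⟨⟨χ₂, hχ₂⟩⟩
    exact r1.symm.trans r2

theorem cMap_locInj (hπ : Gerb.LocSurjHom J π) : Presheaf.IsLocallyInjective J (cMap π) where
  equalizerSieve_mem {U} s t h := by
    obtain ⟨⟨xa, ha⟩⟩ := s
    obtain ⟨⟨xb, hb⟩⟩ := t
    exact cMap_locInj_aux J π hπ xa xb ha hb h

theorem exists_cMap (hπ : Gerb.IsGerbeOver J π) :
    ∃ c : Gerb.isoClPsh 𝒳 ⟶ P,
      (∀ x : 𝒳.obj, c.app (op (𝒳.p.obj x)) (Quot.mk _ (Gerb.fib x)) =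
          P.map (eqToHom (π.w_obj x).symm).op (π.obj x).sec) ∧
      Presheaf.IsLocallySurjective J c ∧ Presheaf.IsLocallyInjective J c :=
  ⟨cMap π, fun _ => rfl, cMap_locSurj J π hπ.1, cMap_locInj J π hπ.2⟩

end Groth.Agent.Lib.Helper28.GerbIsoCl
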