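import Groth.Statements.S18876
import Groth.Agent.Lib.Helper28.Gerb.IsoCl
import Groth.Agent.Lib.Helper28.AlgSt.AlgClosedCover
import Groth.Agent.Lib.Helper10.LiftSqLib
import Groth.Agent.Lib.Helper10.FibGrpd

/-!
# Coarse moduli spaces along a gerbe
-/

set_option autoImplicit false
set_option backward.isDefEq.respectTransparency false
set_option backward.isDefEq.respectTransparency.types false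

universe u
open CategoryTheory AlgebraicGeometry Opposite

namespace Groth.Agent.Lib.Helper28.GerbCoarse

open Groth.Agent.Lib.Helper28.GerbIsoCl Groth.Agent.Lib.Helper10.LiftSqLib

variable {S : Scheme.{u}} {𝒳 𝒴 : AlgSt.Cat S} {M N : AlgSp.Sp S}

theorem fibSec_eq_secAt (π : 𝒳 ⥤ᵇ AlgSt.ofSp M) {T : Over S} (x : 𝒳.p.Fiber T) :
    AlgSt.fibSec π x = secAt (P := M.obj) π x.1 x.2 := rfl

theorem fibSec_of_hom (π : 𝒳 ⥤ᵇ AlgSt.ofSp M) {T : Over S} {x y : 𝒳.p.Fiber T} (f : x ⟶ y) :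
    AlgSt.fibSec π x = AlgSt.fibSec π y := by
  have := secAt_map (P := M.obj) π f.1 y.2 x.2 (𝟙 T) f.2
  rw [fibSec_eq_secAt, fibSec_eq_secAt, ← this]
  simp

theorem fibSec_of_iso {π π' : 𝒳 ⥤ᵇ AlgSt.ofSp M} (h : Nonempty (π ≅ π')) {T : Over S}
    (x : 𝒳.p.Fiber T) : AlgSt.fibSec π x = AlgSt.fibSec π' x := by
  obtain ⟨α⟩ := h
  obtain ⟨x, rfl⟩ := x
  have hl : (AlgSt.ofSp M).p.IsHomLift (𝟙 (𝒳.p.obj x)) (α.hom.toNatTrans.app x) :=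
    α.hom.isHomLift rfl
  have e := (α.hom.toNatTrans.app x).map_sec
  have e2 : (α.hom.toNatTrans.app x).hom =
      eqToHom ((π.w_obj x).trans (π'.w_obj x).symm) := by
    have := @IsHomLift.fac' _ _ _ _ (AlgSt.ofSp M).p _ _ _ _ _ _ hl
    simpa using this
  show M.obj.map (eqToHom _).op (π.obj x).sec = M.obj.map (eqToHom _).op (π'.obj x).sec
  rw [← e, e2]
  exact pmap_eqToHom_trans (P := M.obj) _ _ _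

/-- The image of a fibre object. -/
def fObj (F : 𝒳 ⥤ᵇ 𝒴) {T : Over S} (x : 𝒳.p.Fiber T) : 𝒴.p.Fiber T :=
  ⟨F.obj x.1, (F.w_obj x.1).trans x.2⟩

theorem fibSec_comp (F : 𝒳 ⥤ᵇ 𝒴) (π : 𝒴 ⥤ᵇ AlgSt.ofSp M) {T : Over S} (x : 𝒳.p.Fiber T) :
    AlgSt.fibSec (BasedFunctor.comp F π) x = AlgSt.fibSec π (fObj F x) := rfl

theorem fObj_iso (h𝒴 : FibCat.IsFibGrpd 𝒴.p) (F : 𝒳 ⥤ᵇ 𝒴) {T : Over S} {x x' : 𝒳.p.Fiber T}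
    (h : Nonempty (x ≅ x')) : Nonempty (fObj F x ≅ fObj F x') := by
  obtain ⟨e⟩ := h
  haveI := Groth.Agent.Lib.Helper10.Fib.IsFibGrpd.isGroupoid_fiber h𝒴 T
  have hl : 𝒴.p.IsHomLift (𝟙 T) (F.map e.hom.1) :=
    @BasedFunctor.preserves_isHomLift _ _ _ _ F _ _ _ _ (𝟙 T) e.hom.1 e.hom.2
  let m : fObj F x ⟶ fObj F x' := ⟨F.map e.hom.1, hl⟩
  exact ⟨asIso m⟩

variable (J : GrothendieckTopology (Over S))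

theorem lift_obj (F : 𝒳 ⥤ᵇ 𝒴) (hF : Gerb.LocSurjObj J F) {T : Over S}
    (hJ : ∀ R ∈ J T, R (𝟙 T)) (y : 𝒴.p.Fiber T) :
    ∃ x : 𝒳.p.Fiber T, Nonempty (fObj F x ⟶ y) := by
  obtain ⟨y, rfl⟩ := y
  obtain ⟨R, hR, h⟩ := hF y
  obtain ⟨x, g, hg⟩ := h (𝟙 _) (hJ R hR)
  have hx : 𝒳.p.obj x = 𝒴.p.obj y :=
    (F.w_obj x).symm.trans (@IsHomLift.domain_eq _ _ _ _ 𝒴.p _ _ _ _ _ g hg)
  exact ⟨⟨x, hx⟩, ⟨⟨g, hg⟩⟩⟩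

theorem lift_hom (h𝒳 : FibCat.IsFibGrpd 𝒳.p) (F : 𝒳 ⥤ᵇ 𝒴) (hF : Gerb.LocSurjHom J F) {T : Over S}
    (hJ : ∀ R ∈ J T, R (𝟙 T)) (x x' : 𝒳.p.Fiber T) (b : fObj F x ⟶ fObj F x') :
    Nonempty (x ≅ x') := by
  obtain ⟨x, rfl⟩ := x
  obtain ⟨x', hx'⟩ := x'
  obtain ⟨R, hR, h⟩ := hF x x' b.1 b.2
  obtain ⟨x₀, φ, ψ, hφ, hψ, -⟩ := h (𝟙 _) (hJ R hR)
  haveI := Groth.Agent.Lib.Helper10.Fib.IsFibGrpd.isGroupoid_fiber h𝒳 (𝒳.p.obj x)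
  have hx₀ : 𝒳.p.obj x₀ = 𝒳.p.obj x := @IsHomLift.domain_eq _ _ _ _ 𝒳.p _ _ _ _ _ φ hφ
  let a₀ : 𝒳.p.Fiber (𝒳.p.obj x) := ⟨x₀, hx₀⟩
  let φ' : a₀ ⟶ ⟨x, rfl⟩ := ⟨φ, hφ⟩
  let ψ' : a₀ ⟶ ⟨x', hx'⟩ := ⟨ψ, hψ⟩
  exact ⟨(asIso φ').symm ≪≫ asIso ψ'⟩

/-- Covering sieves of geometric points are trivial. -/
def TopAt : Prop :=
  ∀ (Ω : Type u) [Field Ω] [IsAlgClosed Ω] (t : Spec (CommRingCat.of Ω) ⟶ S),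
    ∀ R ∈ J (Over.mk t), R (𝟙 (Over.mk t))

theorem topAt_fppf : TopAt (QuotSh.J Scheme.fppfPrecoverage S) := fun _ _ _ t R hR =>
  Groth.Agent.Lib.Helper28.AlgSt.AlgClosedCover.id_mem_of_algClosed t R hR

variable (F : 𝒳 ⥤ᵇ 𝒴)

theorem geomPtBij_comp (h𝒳 : FibCat.IsFibGrpd 𝒳.p) (hJ : TopAt J)
    (hF : Gerb.IsGerbeOver J F) (π : 𝒴 ⥤ᵇ AlgSt.ofSp M) (hπ : AlgSt.GeomPtBij π) :
    AlgSt.GeomPtBij (BasedFunctor.comp F π) := by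
  intro Ω _ _ t
  obtain ⟨h1, h2⟩ := hπ Ω t
  refine ⟨fun m => ?_, fun x x' hxx' => ?_⟩
  · obtain ⟨y, hy⟩ := h1 m
    obtain ⟨x, ⟨g⟩⟩ := lift_obj J F hF.1 (hJ Ω t) y
    exact ⟨x, (fibSec_comp F π x).trans ((fibSec_of_hom π g).trans hy)⟩
  · obtain ⟨e⟩ := h2 (fObj F x) (fObj F x') hxx'
    exact lift_hom J h𝒳 F hF.2 (hJ Ω t) x x' e.hom

theorem geomPtBij_of_comp (h𝒴 : FibCat.IsFibGrpd 𝒴.p) (hJ : TopAt J)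
    (hF : Gerb.IsGerbeOver J F) (ψ : 𝒴 ⥤ᵇ AlgSt.ofSp M) (π' : 𝒳 ⥤ᵇ AlgSt.ofSp M)
    (hiso : Nonempty (BasedFunctor.comp F ψ ≅ π')) (hπ' : AlgSt.GeomPtBij π') :
    AlgSt.GeomPtBij ψ := by
  intro Ω _ _ t
  obtain ⟨h1, h2⟩ := hπ' Ω t
  have key : ∀ x : 𝒳.p.Fiber (Over.mk t), AlgSt.fibSec ψ (fObj F x) = AlgSt.fibSec π' x :=
    fun x => (fibSec_comp F ψ x).symm.trans (fibSec_of_iso hiso x)
  refine ⟨fun m => ?_, fun y y' hyy' => ?_⟩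
  · obtain ⟨x, hx⟩ := h1 m
    exact ⟨fObj F x, (key x).trans hx⟩
  · obtain ⟨x, ⟨g⟩⟩ := lift_obj J F hF.1 (hJ Ω t) y
    obtain ⟨x', ⟨g'⟩⟩ := lift_obj J F hF.1 (hJ Ω t) y'
    have e1 : AlgSt.fibSec π' x = AlgSt.fibSec π' x' := by
      rw [← key x, ← key x', fibSec_of_hom ψ g, fibSec_of_hom ψ g', hyy']
    obtain ⟨e⟩ := fObj_iso h𝒴 F (h2 x x' e1)
    haveI := Groth.Agent.Lib.Helper10.Fib.IsFibGrpd.isGroupoid_fiber h𝒴 (Over.mk t)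
    exact ⟨(asIso g).symm ≪≫ e ≪≫ asIso g'⟩

/-- The universal property hypothesis of the statement. -/
def Univ : Prop :=
  ∀ (N : AlgSp.Sp S), AlgSp.IsAlgSpace N → ∀ φ : 𝒳 ⥤ᵇ AlgSt.ofSp N,
      ∃ ψ : 𝒴 ⥤ᵇ AlgSt.ofSp N, Nonempty (BasedFunctor.comp F ψ ≅ φ) ∧
        ∀ ψ' : 𝒴 ⥤ᵇ AlgSt.ofSp N, Nonempty (BasedFunctor.comp F ψ' ≅ φ) → Nonempty (ψ' ≅ ψ)

theorem isCatModuli_comp (huniv : Univ F) (π : 𝒴 ⥤ᵇ AlgSt.ofSp M)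
    (hπ : AlgSt.IsCatModuliIn (AlgSp.IsAlgSpace (S := S)) π) :
    AlgSt.IsCatModuliIn (AlgSp.IsAlgSpace (S := S)) (BasedFunctor.comp F π) := by
  refine ⟨hπ.1, fun N hN φ => ?_⟩
  obtain ⟨ψ, ⟨e1⟩, huniq⟩ := huniv N hN φ
  obtain ⟨g, ⟨e2⟩, hg⟩ := hπ.2 N hN ψ
  refine ⟨g, ⟨?_⟩, fun g' he' => ?_⟩
  · exact (Iso.refl _ : BasedFunctor.comp (BasedFunctor.comp F π) (AlgSt.ofSpMap g) ≅
      BasedFunctor.comp F (BasedFunctor.comp π (AlgSt.ofSpMap g))) ≪≫ wlIso F e2 ≪≫ e1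
  · obtain ⟨e'⟩ := he'
    apply hg
    exact huniq _ ⟨(Iso.refl _ : BasedFunctor.comp F (BasedFunctor.comp π (AlgSt.ofSpMap g')) ≅
      BasedFunctor.comp (BasedFunctor.comp F π) (AlgSt.ofSpMap g')) ≪≫ e'⟩

theorem isCatModuli_of_comp (huniv : Univ F) (ψ : 𝒴 ⥤ᵇ AlgSt.ofSp M) (π' : 𝒳 ⥤ᵇ AlgSt.ofSp M)
    (hiso : Nonempty (BasedFunctor.comp F ψ ≅ π'))
    (hπ' : AlgSt.IsCatModuliIn (AlgSp.IsAlgSpace (S := S)) π') :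
    AlgSt.IsCatModuliIn (AlgSp.IsAlgSpace (S := S)) ψ := by
  obtain ⟨e0⟩ := hiso
  refine ⟨hπ'.1, fun N hN φ => ?_⟩
  obtain ⟨g, ⟨e2⟩, hg⟩ := hπ'.2 N hN (BasedFunctor.comp F φ)
  obtain ⟨ψ₀, -, huniq⟩ := huniv N hN (BasedFunctor.comp F φ)
  refine ⟨g, ?_, fun g' he' => ?_⟩
  · obtain ⟨b1⟩ : Nonempty (BasedFunctor.comp ψ (AlgSt.ofSpMap g) ≅ ψ₀) :=
      huniq _ ⟨(Iso.refl _ : BasedFunctor.comp F (BasedFunctor.comp ψ (AlgSt.ofSpMap g)) ≅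
        BasedFunctor.comp (BasedFunctor.comp F ψ) (AlgSt.ofSpMap g)) ≪≫
        wrIso e0 (AlgSt.ofSpMap g) ≪≫ e2⟩
    obtain ⟨b2⟩ : Nonempty (φ ≅ ψ₀) := huniq _ ⟨Iso.refl _⟩
    exact ⟨b1 ≪≫ b2.symm⟩
  · obtain ⟨e'⟩ := he'
    apply hg
    exact ⟨(wrIso e0 (AlgSt.ofSpMap g')).symm ≪≫
      (Iso.refl _ : BasedFunctor.comp (BasedFunctor.comp F ψ) (AlgSt.ofSpMap g') ≅
        BasedFunctor.comp F (BasedFunctor.comp ψ (AlgSt.ofSpMap g'))) ≪≫ wlIso F e'⟩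

theorem main (h𝒳 : FibCat.IsFibGrpd 𝒳.p) (h𝒴 : FibCat.IsFibGrpd 𝒴.p)
    (hF : Gerb.IsGerbeOver (QuotSh.J Scheme.fppfPrecoverage S) F) (huniv : Univ F) :
    ((∃ (M : AlgSp.Sp S) (π : 𝒴 ⥤ᵇ AlgSt.ofSp M), AlgSt.IsCoarseModuli π) ↔
        ∃ (M : AlgSp.Sp S) (π : 𝒳 ⥤ᵇ AlgSt.ofSp M), AlgSt.IsCoarseModuli π) ∧
      ∀ (M : AlgSp.Sp S) (π : 𝒴 ⥤ᵇ AlgSt.ofSp M), AlgSt.IsCoarseModuli π →
        AlgSt.IsCoarseModuli (BasedFunctor.comp F π) := by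
  have hB : ∀ (M : AlgSp.Sp S) (π : 𝒴 ⥤ᵇ AlgSt.ofSp M), AlgSt.IsCoarseModuli π →
      AlgSt.IsCoarseModuli (BasedFunctor.comp F π) := fun M π hπ =>
    ⟨isCatModuli_comp F huniv π hπ.1, geomPtBij_comp _ F h𝒳 topAt_fppf hF π hπ.2⟩
  refine ⟨⟨fun ⟨M, π, hπ⟩ => ⟨M, _, hB M π hπ⟩, fun ⟨M, π', hπ'⟩ => ?_⟩, hB⟩
  obtain ⟨ψ, hiso, -⟩ := huniv M hπ'.1.1 π'
  exact ⟨M, ψ, isCatModuli_of_comp F huniv ψ π' hiso hπ'.1,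
    geomPtBij_of_comp _ F h𝒴 topAt_fppf hF ψ π' hiso hπ'.2⟩

end Groth.Agent.Lib.Helper28.GerbCoarse
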